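import Cfsg.Agent.Lib.Fischer.Thm.List
import Cfsg.Agent.Lib.Fischer.Polar.Herm
import Cfsg.Agent.Lib.CosetEnum.GFFour

/-!
# The indexed transvection class of the unitary group of dimension four over four elements
-/

set_option autoImplicit false
set_option linter.style.haveILetI false

namespace Cfsg.Lib.Fischer.Thm.SmallIso

open Module Cfsg Cfsg.Lib.Linear.Herm Cfsg.Agent.S1631 Cfsg.Lib.Fischer.RadicalAbelian Cfsg.Lib.Fischer.Polar
open Cfsg.Lib.CosetEnum (GF4)

/-- The product `∑ uᵢ vᵢ²`. -/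
def h4 (u v : Fin 4 → GF4) : GF4 := u 0 * (v 0 * v 0) + u 1 * (v 1 * v 1) + u 2 * (v 2 * v 2) + u 3 * (v 3 * v 3)

/-- The transvection in an isotropic vector, on vectors. -/
def tv4 (w x : Fin 4 → GF4) : Fin 4 → GF4 := fun i => x i + h4 x w * w i

/-- The class, indexed. -/
theorem exists_unitary_points {G : Type*} [Group G] {D : Set G} (h : IsPSU G D 4)
    {n : ℕ} [NeZero n] (pt : Fin n → Fin 4 → GF4) (T : Fin n → Fin n → Fin n)
    (h1 : ∀ p, h4 (pt p) (pt p) = 0 ∧ pt p ≠ 0)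
    (h2 : ∀ v, h4 v v = 0 → v ≠ 0 → ∃ p, ∃ k : GF4, k ≠ 0 ∧ v = fun i => k * pt p i)
    (h3 : ∀ a b, ∃ k : GF4, k ≠ 0 ∧ tv4 (pt a) (pt b) = fun i => k * pt (T a b) i)
    (hne : ∀ a b, a ≠ b → ∃ c, ∃ i : Fin 4,
      tv4 (pt a) (tv4 (pt b) (tv4 (pt c) (Pi.single i 1))) ≠ tv4 (pt c) (tv4 (pt a) (tv4 (pt b) (Pi.single i 1)))) :
    ∃ δ : Fin n → G, Function.Injective δ ∧ Set.range δ = D ∧ (∀ a b, δ a * δ b * (δ a)⁻¹ = δ (T a b)) ∧
      Subgroup.closure D = ⊤ ∧ Subgroup.center G = ⊥ := by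
  classical
  obtain ⟨F, _, _, hF4, e, he⟩ := h
  have hF : Fintype.card F = 2 ^ 2 := hF4
  have hK := fourField hF
  have hS := hB_isSymm hF 4
  let φ : GF4 ≃+* F := FiniteField.ringEquivOfCardEq (by rw [GF4.card_eq, hF]; norm_num)
  let up : (Fin 4 → GF4) → Fin 4 → F := fun v i => φ (v i)
  have hupi : Function.Injective up := fun u v huv => funext fun i => φ.injective (congrFun huv i)
  have hups : ∀ w : Fin 4 → F, ∃ v, up v = w := fun w => ⟨fun i => φ.symm (w i), funext fun i => φ.apply_symm_apply _⟩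
  have hup0 : up 0 = 0 := funext fun i => map_zero φ
  have hB4 : ∀ u v, hB hF 4 (up u) (up v) = φ (h4 v u) := fun u v => by
    rw [hB_apply, Cfsg.hermForm, Fin.sum_univ_four, h4]
    simp only [up, map_add, map_mul, sq]
  have hw : ∀ p, hB hF 4 (up (pt p)) (up (pt p)) = 0 := fun p => by rw [hB4, (h1 p).1, map_zero]
  have hne0 : ∀ p, up (pt p) ≠ 0 := fun p h0 => (h1 p).2 (hupi (h0.trans hup0.symm))
  have hscale : ∀ (k : GF4) (v : Fin 4 → GF4), (up fun i => k * v i) = φ k • up v := fun k v =>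
    funext fun i => map_mul φ _ _
  choose A hA using fun p => model_surjective hF 4 (tvu_mem hK hS (hw p))
    (Units.ext (by rw [tvu, det_qrefl, hw p, mul_zero, add_zero]; rfl))
  have hact : ∀ p v, model hF 4 (A p) (up v) = up (tv4 (pt p) v) := fun p v => by
    rw [hA, tvu_apply, hB4]
    funext i
    simp only [up, tv4, Pi.add_apply, Pi.smul_apply, smul_eq_mul, map_add, map_mul]
  have hT : ∀ a b, A a * A b * (A a)⁻¹ = A (T a b) := fun a b => by
    apply model_injective hF 4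
    rw [map_mul, map_mul, map_inv, hA b, hA (T a b), tvu_conj hK (model_mem hF 4 (A a))]
    obtain ⟨k, hk, hke⟩ := h3 a b
    have e1 : model hF 4 (A a) (up (pt b)) = φ k • up (pt (T a b)) := by rw [hact, hke, hscale]
    have h0 : hB hF 4 (φ k • up (pt (T a b))) (φ k • up (pt (T a b))) = 0 := by
      rw [← e1, model_mem hF 4 (A a), hw b]
    rw [tvu_congr hK _ h0 e1]
    exact tvu_smul hK (hw _) (fun h0 => hk (φ.injective (h0.trans (map_zero φ).symm))) h0
  have hrank : Set.range A = {g : ↥(Cfsg.SU 4 F 2) |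
      (((g : Matrix.SpecialLinearGroup (Fin 4) F) : Matrix (Fin 4) (Fin 4) F) - 1).rank = 1} := by
    obtain ⟨-, ⟨A₁, -, hclass⟩, -⟩ := Cfsg.Agent.S1631.result F hF4 4 le_rfl
    have hr : ∀ p, (((A p : Matrix.SpecialLinearGroup (Fin 4) F) : Matrix (Fin 4) (Fin 4) F) - 1).rank = 1 :=
      fun p => rank_one_of_tvu hF hK (hw p) (hne0 p) (hA p)
    refine Set.ext fun g => ⟨fun ⟨p, hp⟩ => hp ▸ hr p, fun hg => ?_⟩
    have hc0 : IsConj A₁ (A 0) := hclass.le (hr 0)
    have hcg : IsConj A₁ g := hclass.le hg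
    obtain ⟨X, rfl⟩ := isConj_iff.1 (hc0.symm.trans hcg)
    obtain ⟨v, hv⟩ := hups (model hF 4 X (up (pt 0)))
    have hv0 : hB hF 4 (up v) (up v) = 0 := by rw [hv, model_mem hF 4 X, hw 0]
    obtain ⟨p, k, hk, hvp⟩ := h2 v (φ.injective (by rw [← hB4, hv0, map_zero])) fun h0 => hne0 0
      ((model hF 4 X).injective (by rw [← hv, h0, hup0, map_zero]))
    refine ⟨p, model_injective hF 4 ?_⟩
    rw [map_mul, map_mul, map_inv, hA, hA, tvu_conj hK (model_mem hF 4 X), tvu_congr hK _ hv0 hv.symm]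
    have e1 : up v = φ k • up (pt p) := by rw [hvp, hscale]
    rw [tvu_congr hK hv0 (e1 ▸ hv0) e1]
    exact (tvu_smul hK (hw p) (fun h0 => hk (φ.injective (h0.trans (map_zero φ).symm))) _).symm
  have hgen : Subgroup.closure (Set.range A) = ⊤ := by
    rw [hrank]; exact (Cfsg.Agent.S1631.result F hF4 4 le_rfl).2.2
  have hδ : ∀ a b, (QuotientGroup.mk (A a) : Cfsg.PSU 4 F 2) = QuotientGroup.mk (A b) → a = b := fun a b hab => by
    by_contra hne'
    obtain ⟨c, i, hci⟩ := hne a b hne'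
    have hz : (A a)⁻¹ * A b ∈ Subgroup.center ↥(Cfsg.SU 4 F 2) := QuotientGroup.eq.1 hab
    have hinv : (A a)⁻¹ = A a := inv_eq_of_mul_eq_one_right
      (model_injective hF 4 (by rw [map_mul, hA, tvu_sq, map_one]))
    rw [hinv] at hz
    refine hci (hupi ?_)
    have := congrArg (fun g => model hF 4 g (up (Pi.single i 1))) (Subgroup.mem_center_iff.1 hz (A c)).symm
    simpa only [map_mul, LinearEquiv.mul_apply, hact] using this
  have hD : Set.range (fun p => e.symm (QuotientGroup.mk (A p))) = D := by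
    rw [show (fun p => e.symm (QuotientGroup.mk (A p))) = (fun g => e.symm g) ∘ QuotientGroup.mk ∘ A from rfl,
      Set.range_comp, Set.range_comp, hrank, ← he, Set.image_image]
    simp
  refine ⟨fun p => e.symm (QuotientGroup.mk (A p)), fun a b hab => hδ a b (e.symm.injective hab), hD,
    fun a b => ?_, ?_, ?_⟩
  · rw [← map_mul, ← map_inv, ← map_mul, ← QuotientGroup.mk_mul, ← QuotientGroup.mk_inv, ← QuotientGroup.mk_mul, hT]
  · refine eq_top_iff.2 fun x _ => ?_
    obtain ⟨g, hg⟩ := QuotientGroup.mk_surjective (e x)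
    have h : Subgroup.closure (Set.range A) ≤
        (Subgroup.closure D).comap (e.symm.toMonoidHom.comp (QuotientGroup.mk' _)) := by
      rw [Subgroup.closure_le]
      rintro _ ⟨p, rfl⟩
      exact Subgroup.subset_closure (hD.le ⟨p, rfl⟩)
    have h' := h (hgen.ge (Subgroup.mem_top g))
    rwa [Subgroup.mem_comap, MonoidHom.comp_apply, QuotientGroup.mk'_apply, hg, MulEquiv.coe_toMonoidHom,
      e.symm_apply_apply] at h'
  · rw [Subgroup.eq_bot_iff_forall]
    intro x hx
    refine e.injective (Eq.trans ?_ (map_one e).symm)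
    obtain ⟨g, hg⟩ := QuotientGroup.mk_surjective (e x)
    rw [← hg, QuotientGroup.eq_one_iff, Subgroup.mem_center_iff]
    have hfix : ∀ p, g * A p * g⁻¹ = A p := fun p => by
      obtain ⟨q, hq⟩ : g * A p * g⁻¹ ∈ Set.range A := by
        obtain ⟨-, ⟨A₁, -, hclass⟩, -⟩ := Cfsg.Agent.S1631.result F hF4 4 le_rfl
        rw [hrank, hclass]
        exact IsConj.trans (hclass.le (hrank.le ⟨p, rfl⟩) : IsConj A₁ (A p)) (isConj_iff.2 ⟨g, rfl⟩)
      rw [← hq, hδ q p ?_]
      rw [hq, QuotientGroup.mk_mul, QuotientGroup.mk_mul, QuotientGroup.mk_inv, hg, mul_inv_eq_iff_eq_mul]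
      apply e.symm.injective
      rw [map_mul, map_mul, e.symm_apply_apply]
      exact (Subgroup.mem_center_iff.1 hx _).symm
    intro y
    have hle : Subgroup.closure (Set.range A) ≤ Subgroup.centralizer {g} := by
      rw [Subgroup.closure_le]
      rintro _ ⟨p, rfl⟩
      exact Subgroup.mem_centralizer_singleton_iff.2 (mul_inv_eq_iff_eq_mul.1 (hfix p)).symm
    exact Subgroup.mem_centralizer_singleton_iff.1 (hle (hgen.ge (Subgroup.mem_top y)))

end Cfsg.Lib.Fischer.Thm.SmallIso
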