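import Cfsg.Agent.Lib.CosetEnum.GFFour

/-!
# Point lists and conjugation tables for the small coincidences

The lists were found by a search program; everything used about them is checked in the modules using them.
-/

set_option autoImplicit false

namespace Cfsg.Lib.Fischer.Thm.SmallIso

open Cfsg.Lib.CosetEnum

/-- The non-singular vectors of the hyperbolic space of dimension six over two elements. -/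
def ptPlus : Fin 28 → Fin 3 ⊕ Fin 3 → ZMod 2 :=
  ![Sum.elim (![0, 0, 1] : Fin 3 → ZMod 2) ![0, 0, 1],
    Sum.elim (![0, 0, 1] : Fin 3 → ZMod 2) ![0, 1, 1],
    Sum.elim (![0, 0, 1] : Fin 3 → ZMod 2) ![1, 0, 1],
    Sum.elim (![0, 0, 1] : Fin 3 → ZMod 2) ![1, 1, 1],
    Sum.elim (![0, 1, 0] : Fin 3 → ZMod 2) ![0, 1, 0],
    Sum.elim (![0, 1, 0] : Fin 3 → ZMod 2) ![0, 1, 1],
    Sum.elim (![0, 1, 0] : Fin 3 → ZMod 2) ![1, 1, 0],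
    Sum.elim (![0, 1, 0] : Fin 3 → ZMod 2) ![1, 1, 1],
    Sum.elim (![0, 1, 1] : Fin 3 → ZMod 2) ![0, 0, 1],
    Sum.elim (![0, 1, 1] : Fin 3 → ZMod 2) ![0, 1, 0],
    Sum.elim (![0, 1, 1] : Fin 3 → ZMod 2) ![1, 0, 1],
    Sum.elim (![0, 1, 1] : Fin 3 → ZMod 2) ![1, 1, 0],
    Sum.elim (![1, 0, 0] : Fin 3 → ZMod 2) ![1, 0, 0],
    Sum.elim (![1, 0, 0] : Fin 3 → ZMod 2) ![1, 0, 1],
    Sum.elim (![1, 0, 0] : Fin 3 → ZMod 2) ![1, 1, 0],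
    Sum.elim (![1, 0, 0] : Fin 3 → ZMod 2) ![1, 1, 1],
    Sum.elim (![1, 0, 1] : Fin 3 → ZMod 2) ![0, 0, 1],
    Sum.elim (![1, 0, 1] : Fin 3 → ZMod 2) ![0, 1, 1],
    Sum.elim (![1, 0, 1] : Fin 3 → ZMod 2) ![1, 0, 0],
    Sum.elim (![1, 0, 1] : Fin 3 → ZMod 2) ![1, 1, 0],
    Sum.elim (![1, 1, 0] : Fin 3 → ZMod 2) ![0, 1, 0],
    Sum.elim (![1, 1, 0] : Fin 3 → ZMod 2) ![0, 1, 1],
    Sum.elim (![1, 1, 0] : Fin 3 → ZMod 2) ![1, 0, 0],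
    Sum.elim (![1, 1, 0] : Fin 3 → ZMod 2) ![1, 0, 1],
    Sum.elim (![1, 1, 1] : Fin 3 → ZMod 2) ![0, 0, 1],
    Sum.elim (![1, 1, 1] : Fin 3 → ZMod 2) ![0, 1, 0],
    Sum.elim (![1, 1, 1] : Fin 3 → ZMod 2) ![1, 0, 0],
    Sum.elim (![1, 1, 1] : Fin 3 → ZMod 2) ![1, 1, 1]]

/-- The matching pairs among eight letters. -/
def ptPair : Fin 28 → Fin 8 × Fin 8 :=
  ![(0, 1),
    (2, 3),
    (4, 5),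
    (6, 7),
    (2, 6),
    (0, 4),
    (3, 7),
    (1, 5),
    (3, 6),
    (1, 4),
    (2, 7),
    (0, 5),
    (5, 7),
    (1, 3),
    (4, 6),
    (0, 2),
    (4, 7),
    (5, 6),
    (0, 3),
    (1, 2),
    (3, 5),
    (1, 7),
    (2, 4),
    (0, 6),
    (2, 5),
    (0, 7),
    (1, 6),
    (3, 4)]

/-- The rows of the conjugation table `tblPlus`. -/
def tblPlusL : List (List ℕ) :=
  [[0, 1, 2, 3, 4, 9, 6, 11, 8, 5, 10, 7, 12, 18, 14, 19, 16, 17, 13, 15, 20, 25, 22, 26, 24, 21, 23, 27],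
    [0, 1, 2, 3, 8, 5, 10, 7, 4, 9, 6, 11, 12, 19, 14, 18, 16, 17, 15, 13, 24, 21, 27, 23, 20, 25, 26, 22],
    [0, 1, 2, 3, 4, 11, 6, 9, 8, 7, 10, 5, 16, 13, 17, 15, 12, 14, 18, 19, 27, 21, 24, 23, 22, 25, 26, 20],
    [0, 1, 2, 3, 10, 5, 8, 7, 6, 9, 4, 11, 17, 13, 16, 15, 14, 12, 18, 19, 20, 26, 22, 25, 24, 23, 21, 27],
    [0, 8, 2, 10, 4, 5, 6, 7, 1, 9, 3, 11, 12, 13, 22, 23, 16, 24, 18, 26, 20, 21, 14, 15, 17, 25, 19, 27],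
    [9, 1, 11, 3, 4, 5, 6, 7, 8, 0, 10, 2, 12, 13, 23, 22, 25, 17, 27, 19, 20, 21, 15, 14, 24, 16, 26, 18],
    [0, 10, 2, 8, 4, 5, 6, 7, 3, 9, 1, 11, 20, 21, 14, 15, 27, 17, 25, 19, 12, 13, 22, 23, 24, 18, 26, 16],
    [11, 1, 9, 3, 4, 5, 6, 7, 8, 2, 10, 0, 21, 20, 14, 15, 16, 26, 18, 24, 13, 12, 22, 23, 19, 25, 17, 27],
    [0, 4, 2, 6, 1, 5, 3, 7, 8, 9, 10, 11, 12, 26, 27, 15, 16, 20, 23, 19, 17, 21, 22, 18, 24, 25, 13, 14],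
    [5, 1, 7, 3, 4, 0, 6, 2, 8, 9, 10, 11, 12, 27, 26, 15, 21, 17, 18, 22, 20, 16, 19, 23, 24, 25, 14, 13],
    [0, 6, 2, 4, 3, 5, 1, 7, 8, 9, 10, 11, 24, 13, 14, 25, 22, 17, 18, 21, 20, 19, 16, 23, 12, 15, 26, 27],
    [7, 1, 5, 3, 4, 2, 6, 0, 8, 9, 10, 11, 25, 13, 14, 24, 16, 23, 20, 19, 18, 21, 22, 17, 15, 12, 26, 27],
    [0, 1, 16, 17, 4, 5, 20, 21, 8, 9, 24, 25, 12, 13, 14, 15, 2, 3, 18, 19, 6, 7, 22, 23, 10, 11, 26, 27],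
    [18, 19, 2, 3, 4, 5, 21, 20, 26, 27, 10, 11, 12, 13, 14, 15, 16, 17, 0, 1, 7, 6, 22, 23, 24, 25, 8, 9],
    [0, 1, 17, 16, 22, 23, 6, 7, 27, 26, 10, 11, 12, 13, 14, 15, 3, 2, 18, 19, 20, 21, 4, 5, 24, 25, 9, 8],
    [19, 18, 2, 3, 23, 22, 6, 7, 8, 9, 25, 24, 12, 13, 14, 15, 16, 17, 1, 0, 20, 21, 5, 4, 11, 10, 26, 27],
    [0, 1, 12, 14, 4, 25, 27, 7, 8, 21, 22, 11, 2, 13, 3, 15, 16, 17, 18, 19, 20, 9, 10, 23, 24, 5, 26, 6],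
    [0, 1, 14, 12, 24, 5, 6, 26, 20, 9, 10, 23, 3, 13, 2, 15, 16, 17, 18, 19, 8, 21, 22, 11, 4, 25, 7, 27],
    [13, 15, 2, 3, 4, 27, 25, 7, 23, 9, 10, 20, 12, 0, 14, 1, 16, 17, 18, 19, 11, 21, 22, 8, 24, 6, 26, 5],
    [15, 13, 2, 3, 26, 5, 6, 24, 8, 22, 21, 11, 12, 1, 14, 0, 16, 17, 18, 19, 20, 10, 9, 23, 7, 25, 4, 27],
    [0, 24, 27, 3, 4, 5, 12, 13, 17, 9, 10, 18, 6, 7, 14, 15, 16, 8, 11, 19, 20, 21, 22, 23, 1, 25, 26, 2],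
    [25, 1, 2, 26, 4, 5, 13, 12, 8, 16, 19, 11, 7, 6, 14, 15, 9, 17, 18, 10, 20, 21, 22, 23, 24, 0, 3, 27],
    [0, 27, 24, 3, 14, 15, 6, 7, 8, 19, 16, 11, 12, 13, 4, 5, 10, 17, 18, 9, 20, 21, 22, 23, 2, 25, 26, 1],
    [26, 1, 2, 25, 15, 14, 6, 7, 18, 9, 10, 17, 12, 13, 5, 4, 16, 11, 8, 19, 20, 21, 22, 23, 24, 3, 0, 27],
    [0, 20, 22, 3, 17, 5, 6, 19, 8, 9, 12, 15, 10, 13, 14, 11, 16, 4, 18, 7, 1, 21, 2, 23, 24, 25, 26, 27],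
    [21, 1, 2, 23, 4, 16, 18, 7, 8, 9, 15, 12, 11, 13, 14, 10, 5, 17, 6, 19, 20, 0, 22, 3, 24, 25, 26, 27],
    [23, 1, 2, 21, 19, 5, 6, 17, 13, 14, 10, 11, 12, 8, 9, 15, 16, 7, 18, 4, 20, 3, 22, 0, 24, 25, 26, 27],
    [0, 22, 20, 3, 4, 18, 16, 7, 14, 13, 10, 11, 12, 9, 8, 15, 6, 17, 5, 19, 2, 21, 1, 23, 24, 25, 26, 27]]

/-- The conjugation table `tblPlus`. -/
def tblPlus (a b : Fin 28) : Fin 28 :=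
  ⟨(((tblPlusL).getD a.val []).getD b.val 0) % 28, Nat.mod_lt _ (by decide)⟩

/-- The non-singular vectors of the elliptic space of dimension six over two elements. -/
def ptMinus : Fin 36 → (Fin 2 ⊕ Fin 2) ⊕ Fin 2 → ZMod 2 :=
  ![Sum.elim (Sum.elim (![0, 0] : Fin 2 → ZMod 2) ![0, 0]) ![0, 1],
    Sum.elim (Sum.elim (![0, 0] : Fin 2 → ZMod 2) ![0, 0]) ![1, 0],
    Sum.elim (Sum.elim (![0, 0] : Fin 2 → ZMod 2) ![0, 0]) ![1, 1],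
    Sum.elim (Sum.elim (![0, 0] : Fin 2 → ZMod 2) ![0, 1]) ![0, 1],
    Sum.elim (Sum.elim (![0, 0] : Fin 2 → ZMod 2) ![0, 1]) ![1, 0],
    Sum.elim (Sum.elim (![0, 0] : Fin 2 → ZMod 2) ![0, 1]) ![1, 1],
    Sum.elim (Sum.elim (![0, 0] : Fin 2 → ZMod 2) ![1, 0]) ![0, 1],
    Sum.elim (Sum.elim (![0, 0] : Fin 2 → ZMod 2) ![1, 0]) ![1, 0],
    Sum.elim (Sum.elim (![0, 0] : Fin 2 → ZMod 2) ![1, 0]) ![1, 1],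
    Sum.elim (Sum.elim (![0, 0] : Fin 2 → ZMod 2) ![1, 1]) ![0, 1],
    Sum.elim (Sum.elim (![0, 0] : Fin 2 → ZMod 2) ![1, 1]) ![1, 0],
    Sum.elim (Sum.elim (![0, 0] : Fin 2 → ZMod 2) ![1, 1]) ![1, 1],
    Sum.elim (Sum.elim (![0, 1] : Fin 2 → ZMod 2) ![0, 0]) ![0, 1],
    Sum.elim (Sum.elim (![0, 1] : Fin 2 → ZMod 2) ![0, 0]) ![1, 0],
    Sum.elim (Sum.elim (![0, 1] : Fin 2 → ZMod 2) ![0, 0]) ![1, 1],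
    Sum.elim (Sum.elim (![0, 1] : Fin 2 → ZMod 2) ![0, 1]) ![0, 0],
    Sum.elim (Sum.elim (![0, 1] : Fin 2 → ZMod 2) ![1, 0]) ![0, 1],
    Sum.elim (Sum.elim (![0, 1] : Fin 2 → ZMod 2) ![1, 0]) ![1, 0],
    Sum.elim (Sum.elim (![0, 1] : Fin 2 → ZMod 2) ![1, 0]) ![1, 1],
    Sum.elim (Sum.elim (![0, 1] : Fin 2 → ZMod 2) ![1, 1]) ![0, 0],
    Sum.elim (Sum.elim (![1, 0] : Fin 2 → ZMod 2) ![0, 0]) ![0, 1],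
    Sum.elim (Sum.elim (![1, 0] : Fin 2 → ZMod 2) ![0, 0]) ![1, 0],
    Sum.elim (Sum.elim (![1, 0] : Fin 2 → ZMod 2) ![0, 0]) ![1, 1],
    Sum.elim (Sum.elim (![1, 0] : Fin 2 → ZMod 2) ![0, 1]) ![0, 1],
    Sum.elim (Sum.elim (![1, 0] : Fin 2 → ZMod 2) ![0, 1]) ![1, 0],
    Sum.elim (Sum.elim (![1, 0] : Fin 2 → ZMod 2) ![0, 1]) ![1, 1],
    Sum.elim (Sum.elim (![1, 0] : Fin 2 → ZMod 2) ![1, 0]) ![0, 0],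
    Sum.elim (Sum.elim (![1, 0] : Fin 2 → ZMod 2) ![1, 1]) ![0, 0],
    Sum.elim (Sum.elim (![1, 1] : Fin 2 → ZMod 2) ![0, 0]) ![0, 1],
    Sum.elim (Sum.elim (![1, 1] : Fin 2 → ZMod 2) ![0, 0]) ![1, 0],
    Sum.elim (Sum.elim (![1, 1] : Fin 2 → ZMod 2) ![0, 0]) ![1, 1],
    Sum.elim (Sum.elim (![1, 1] : Fin 2 → ZMod 2) ![0, 1]) ![0, 0],
    Sum.elim (Sum.elim (![1, 1] : Fin 2 → ZMod 2) ![1, 0]) ![0, 0],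
    Sum.elim (Sum.elim (![1, 1] : Fin 2 → ZMod 2) ![1, 1]) ![0, 1],
    Sum.elim (Sum.elim (![1, 1] : Fin 2 → ZMod 2) ![1, 1]) ![1, 0],
    Sum.elim (Sum.elim (![1, 1] : Fin 2 → ZMod 2) ![1, 1]) ![1, 1]]

/-- The matching points of norm two of the standard five-dimensional space over three elements. -/
def ptReflA : Fin 36 → Fin 5 → ZMod 3 :=
  ![![0, 0, 0, 1, 1],
    ![0, 0, 1, 0, 1],
    ![0, 0, 1, 2, 0],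
    ![0, 0, 0, 1, 2],
    ![0, 0, 1, 0, 2],
    ![0, 0, 1, 1, 0],
    ![0, 1, 1, 0, 0],
    ![0, 1, 0, 1, 0],
    ![0, 1, 0, 0, 2],
    ![0, 1, 2, 0, 0],
    ![0, 1, 0, 2, 0],
    ![0, 1, 0, 0, 1],
    ![1, 1, 2, 1, 2],
    ![1, 1, 1, 2, 2],
    ![1, 1, 1, 1, 1],
    ![1, 1, 2, 2, 1],
    ![1, 2, 1, 2, 1],
    ![1, 2, 2, 1, 1],
    ![1, 2, 2, 2, 2],
    ![1, 2, 1, 1, 2],
    ![1, 0, 1, 0, 0],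
    ![1, 0, 0, 1, 0],
    ![1, 0, 0, 0, 2],
    ![1, 0, 2, 0, 0],
    ![1, 0, 0, 2, 0],
    ![1, 0, 0, 0, 1],
    ![1, 2, 0, 0, 0],
    ![1, 1, 0, 0, 0],
    ![1, 2, 2, 1, 2],
    ![1, 2, 1, 2, 2],
    ![1, 2, 1, 1, 1],
    ![1, 2, 2, 2, 1],
    ![1, 1, 1, 1, 2],
    ![1, 1, 1, 2, 1],
    ![1, 1, 2, 1, 1],
    ![1, 1, 2, 2, 2]]

/-- The rows of the conjugation table `tblMinus`. -/
def tblMinusL : List (List ℕ) :=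
  [[0, 2, 1, 3, 5, 4, 6, 8, 7, 9, 11, 10, 12, 14, 13, 15, 16, 18, 17, 19, 20, 22, 21, 23, 25, 24, 26, 27, 28, 30, 29, 31, 32, 33, 35, 34],
    [2, 1, 0, 5, 4, 3, 8, 7, 6, 11, 10, 9, 14, 13, 12, 15, 18, 17, 16, 19, 22, 21, 20, 25, 24, 23, 26, 27, 30, 29, 28, 31, 32, 35, 34, 33],
    [1, 0, 2, 4, 3, 5, 7, 6, 8, 10, 9, 11, 13, 12, 14, 15, 17, 16, 18, 19, 21, 20, 22, 24, 23, 25, 26, 27, 29, 28, 30, 31, 32, 34, 33, 35],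
    [0, 5, 4, 3, 2, 1, 6, 11, 10, 9, 8, 7, 15, 13, 14, 12, 19, 17, 18, 16, 20, 25, 24, 23, 22, 21, 26, 27, 31, 29, 30, 28, 33, 32, 34, 35],
    [5, 1, 3, 2, 4, 0, 11, 7, 9, 8, 10, 6, 12, 15, 14, 13, 16, 19, 18, 17, 25, 21, 23, 22, 24, 20, 26, 27, 28, 31, 30, 29, 34, 33, 32, 35],
    [4, 3, 2, 1, 0, 5, 10, 9, 8, 7, 6, 11, 12, 13, 15, 14, 16, 17, 19, 18, 24, 23, 22, 21, 20, 25, 26, 27, 28, 29, 31, 30, 35, 33, 34, 32],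
    [0, 8, 7, 3, 11, 10, 6, 2, 1, 9, 5, 4, 12, 18, 17, 15, 16, 14, 13, 19, 26, 21, 22, 27, 24, 25, 20, 23, 32, 29, 30, 33, 28, 31, 34, 35],
    [8, 1, 6, 11, 4, 9, 2, 7, 0, 5, 10, 3, 18, 13, 16, 15, 14, 17, 12, 19, 20, 26, 22, 23, 27, 25, 21, 24, 28, 32, 30, 34, 29, 33, 31, 35],
    [7, 6, 2, 10, 9, 5, 1, 0, 8, 4, 3, 11, 17, 16, 14, 15, 13, 12, 18, 19, 20, 21, 26, 23, 24, 27, 22, 25, 28, 29, 32, 35, 30, 33, 34, 31],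
    [0, 11, 10, 3, 8, 7, 6, 5, 4, 9, 2, 1, 19, 13, 14, 16, 15, 17, 18, 12, 27, 21, 22, 26, 24, 25, 23, 20, 28, 35, 34, 31, 32, 33, 30, 29],
    [11, 1, 9, 8, 4, 6, 5, 7, 3, 2, 10, 0, 12, 19, 14, 17, 16, 15, 18, 13, 20, 27, 22, 23, 26, 25, 24, 21, 35, 29, 33, 31, 32, 30, 34, 28],
    [10, 9, 2, 7, 6, 5, 4, 3, 8, 1, 0, 11, 12, 13, 19, 18, 16, 17, 15, 14, 20, 21, 27, 23, 24, 26, 25, 22, 34, 33, 30, 31, 32, 29, 28, 35],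
    [0, 14, 13, 15, 4, 5, 6, 18, 17, 19, 10, 11, 12, 2, 1, 3, 16, 8, 7, 9, 20, 30, 29, 31, 24, 25, 26, 33, 28, 22, 21, 23, 32, 27, 34, 35],
    [14, 1, 12, 3, 15, 5, 18, 7, 16, 9, 19, 11, 2, 13, 0, 4, 8, 17, 6, 10, 30, 21, 28, 23, 31, 25, 26, 34, 22, 29, 20, 24, 32, 33, 27, 35],
    [13, 12, 2, 3, 4, 15, 17, 16, 8, 9, 10, 19, 1, 0, 14, 5, 7, 6, 18, 11, 29, 28, 22, 23, 24, 31, 26, 35, 21, 20, 30, 25, 32, 33, 34, 27],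
    [0, 1, 2, 12, 13, 14, 6, 7, 8, 16, 17, 18, 3, 4, 5, 15, 9, 10, 11, 19, 20, 21, 22, 28, 29, 30, 26, 32, 23, 24, 25, 31, 27, 33, 34, 35],
    [0, 18, 17, 19, 4, 5, 6, 14, 13, 15, 10, 11, 12, 8, 7, 9, 16, 2, 1, 3, 32, 21, 22, 23, 35, 34, 28, 27, 26, 29, 30, 31, 20, 33, 25, 24],
    [18, 1, 16, 3, 19, 5, 14, 7, 12, 9, 15, 11, 8, 13, 6, 10, 2, 17, 0, 4, 20, 32, 22, 35, 24, 33, 29, 27, 28, 26, 30, 31, 21, 25, 34, 23],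
    [17, 16, 2, 3, 4, 19, 13, 12, 8, 9, 10, 15, 7, 6, 14, 11, 1, 0, 18, 5, 20, 21, 32, 34, 33, 25, 30, 27, 28, 29, 26, 31, 22, 24, 23, 35],
    [0, 1, 2, 16, 17, 18, 6, 7, 8, 12, 13, 14, 9, 10, 11, 15, 3, 4, 5, 19, 33, 34, 35, 23, 24, 25, 31, 27, 28, 29, 30, 26, 32, 20, 21, 22],
    [0, 22, 21, 3, 25, 24, 26, 7, 8, 27, 10, 11, 12, 30, 29, 15, 32, 17, 18, 33, 20, 2, 1, 23, 5, 4, 6, 9, 28, 14, 13, 31, 16, 19, 34, 35],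
    [22, 1, 20, 25, 4, 23, 6, 26, 8, 9, 27, 11, 30, 13, 28, 15, 16, 32, 18, 34, 2, 21, 0, 5, 24, 3, 7, 10, 14, 29, 12, 31, 17, 33, 19, 35],
    [21, 20, 2, 24, 23, 5, 6, 7, 26, 9, 10, 27, 29, 28, 14, 15, 16, 17, 32, 35, 1, 0, 22, 4, 3, 25, 8, 11, 13, 12, 30, 31, 18, 33, 34, 19],
    [0, 25, 24, 3, 22, 21, 27, 7, 8, 26, 10, 11, 31, 13, 14, 28, 16, 35, 34, 19, 20, 5, 4, 23, 2, 1, 9, 6, 15, 29, 30, 12, 32, 33, 18, 17],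
    [25, 1, 23, 22, 4, 20, 6, 27, 8, 9, 26, 11, 12, 31, 14, 29, 35, 17, 33, 19, 5, 21, 3, 2, 24, 0, 10, 7, 28, 15, 30, 13, 32, 18, 34, 16],
    [24, 23, 2, 21, 20, 5, 6, 7, 27, 9, 10, 26, 12, 13, 31, 30, 34, 33, 18, 19, 4, 3, 22, 1, 0, 25, 11, 8, 28, 29, 15, 14, 32, 17, 16, 35],
    [0, 1, 2, 3, 4, 5, 20, 21, 22, 23, 24, 25, 12, 13, 14, 15, 28, 29, 30, 31, 6, 7, 8, 9, 10, 11, 26, 27, 16, 17, 18, 19, 32, 33, 34, 35],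
    [0, 1, 2, 3, 4, 5, 23, 24, 25, 20, 21, 22, 33, 34, 35, 32, 16, 17, 18, 19, 9, 10, 11, 6, 7, 8, 26, 27, 28, 29, 30, 31, 15, 12, 13, 14],
    [0, 30, 29, 31, 4, 5, 32, 7, 8, 9, 35, 34, 12, 22, 21, 23, 26, 17, 18, 19, 20, 14, 13, 15, 24, 25, 16, 27, 28, 2, 1, 3, 6, 33, 11, 10],
    [30, 1, 28, 3, 31, 5, 6, 32, 8, 35, 10, 33, 22, 13, 20, 24, 16, 26, 18, 19, 14, 21, 12, 23, 15, 25, 17, 27, 2, 29, 0, 4, 7, 11, 34, 9],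
    [29, 28, 2, 3, 4, 31, 6, 7, 32, 34, 33, 11, 21, 20, 14, 25, 16, 17, 26, 19, 13, 12, 22, 23, 24, 15, 18, 27, 1, 0, 30, 5, 8, 10, 9, 35],
    [0, 1, 2, 28, 29, 30, 33, 34, 35, 9, 10, 11, 23, 24, 25, 15, 16, 17, 18, 26, 20, 21, 22, 12, 13, 14, 19, 27, 3, 4, 5, 31, 32, 6, 7, 8],
    [0, 1, 2, 33, 34, 35, 28, 29, 30, 9, 10, 11, 12, 13, 14, 27, 20, 21, 22, 19, 16, 17, 18, 23, 24, 25, 26, 15, 6, 7, 8, 31, 32, 3, 4, 5],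
    [0, 35, 34, 32, 4, 5, 31, 7, 8, 9, 30, 29, 27, 13, 14, 15, 16, 25, 24, 20, 19, 21, 22, 23, 18, 17, 26, 12, 28, 11, 10, 6, 3, 33, 2, 1],
    [35, 1, 33, 3, 32, 5, 6, 31, 8, 30, 10, 28, 12, 27, 14, 15, 25, 17, 23, 21, 20, 19, 22, 18, 24, 16, 26, 13, 11, 29, 9, 7, 4, 2, 34, 0],
    [34, 33, 2, 3, 4, 32, 6, 7, 31, 29, 28, 11, 12, 13, 27, 15, 24, 23, 18, 22, 20, 21, 19, 17, 16, 25, 26, 14, 10, 9, 30, 8, 5, 1, 0, 35]]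

/-- The conjugation table `tblMinus`. -/
def tblMinus (a b : Fin 36) : Fin 36 :=
  ⟨(((tblMinusL).getD a.val []).getD b.val 0) % 36, Nat.mod_lt _ (by decide)⟩

/-- The isotropic points of the unitary space of dimension four over four elements. -/
def ptUni : Fin 45 → Fin 4 → GF4 :=
  ![![GF4.o, GF4.o, GF4.i, GF4.i],
    ![GF4.o, GF4.o, GF4.i, GF4.w],
    ![GF4.o, GF4.o, GF4.i, GF4.v],
    ![GF4.o, GF4.i, GF4.o, GF4.i],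
    ![GF4.o, GF4.i, GF4.o, GF4.w],
    ![GF4.o, GF4.i, GF4.o, GF4.v],
    ![GF4.o, GF4.i, GF4.i, GF4.o],
    ![GF4.o, GF4.i, GF4.w, GF4.o],
    ![GF4.o, GF4.i, GF4.v, GF4.o],
    ![GF4.i, GF4.o, GF4.o, GF4.i],
    ![GF4.i, GF4.o, GF4.o, GF4.w],
    ![GF4.i, GF4.o, GF4.o, GF4.v],
    ![GF4.i, GF4.o, GF4.i, GF4.o],
    ![GF4.i, GF4.o, GF4.w, GF4.o],
    ![GF4.i, GF4.o, GF4.v, GF4.o],
    ![GF4.i, GF4.i, GF4.o, GF4.o],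
    ![GF4.i, GF4.i, GF4.i, GF4.i],
    ![GF4.i, GF4.i, GF4.i, GF4.w],
    ![GF4.i, GF4.i, GF4.i, GF4.v],
    ![GF4.i, GF4.i, GF4.w, GF4.i],
    ![GF4.i, GF4.i, GF4.w, GF4.w],
    ![GF4.i, GF4.i, GF4.w, GF4.v],
    ![GF4.i, GF4.i, GF4.v, GF4.i],
    ![GF4.i, GF4.i, GF4.v, GF4.w],
    ![GF4.i, GF4.i, GF4.v, GF4.v],
    ![GF4.i, GF4.w, GF4.o, GF4.o],
    ![GF4.i, GF4.w, GF4.i, GF4.i],
    ![GF4.i, GF4.w, GF4.i, GF4.w],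
    ![GF4.i, GF4.w, GF4.i, GF4.v],
    ![GF4.i, GF4.w, GF4.w, GF4.i],
    ![GF4.i, GF4.w, GF4.w, GF4.w],
    ![GF4.i, GF4.w, GF4.w, GF4.v],
    ![GF4.i, GF4.w, GF4.v, GF4.i],
    ![GF4.i, GF4.w, GF4.v, GF4.w],
    ![GF4.i, GF4.w, GF4.v, GF4.v],
    ![GF4.i, GF4.v, GF4.o, GF4.o],
    ![GF4.i, GF4.v, GF4.i, GF4.i],
    ![GF4.i, GF4.v, GF4.i, GF4.w],
    ![GF4.i, GF4.v, GF4.i, GF4.v],
    ![GF4.i, GF4.v, GF4.w, GF4.i],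
    ![GF4.i, GF4.v, GF4.w, GF4.w],
    ![GF4.i, GF4.v, GF4.w, GF4.v],
    ![GF4.i, GF4.v, GF4.v, GF4.i],
    ![GF4.i, GF4.v, GF4.v, GF4.w],
    ![GF4.i, GF4.v, GF4.v, GF4.v]]

/-- The matching points of norm one of the standard five-dimensional space over three elements. -/
def ptReflB : Fin 45 → Fin 5 → ZMod 3 :=
  ![![0, 0, 0, 0, 1],
    ![0, 1, 1, 1, 1],
    ![0, 1, 1, 1, 2],
    ![1, 0, 1, 2, 1],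
    ![1, 2, 0, 1, 1],
    ![1, 1, 2, 0, 1],
    ![1, 0, 1, 2, 2],
    ![1, 2, 0, 1, 2],
    ![1, 1, 2, 0, 2],
    ![1, 0, 2, 1, 2],
    ![1, 1, 0, 2, 2],
    ![1, 2, 1, 0, 2],
    ![1, 0, 2, 1, 1],
    ![1, 1, 0, 2, 1],
    ![1, 2, 1, 0, 1],
    ![1, 0, 0, 0, 0],
    ![0, 1, 0, 0, 0],
    ![0, 1, 1, 2, 2],
    ![0, 1, 2, 1, 1],
    ![0, 1, 1, 2, 1],
    ![0, 0, 1, 0, 0],
    ![0, 1, 2, 2, 1],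
    ![0, 1, 2, 1, 2],
    ![0, 1, 2, 2, 2],
    ![0, 0, 0, 1, 0],
    ![1, 2, 2, 2, 0],
    ![1, 1, 2, 1, 0],
    ![1, 0, 2, 2, 2],
    ![1, 2, 2, 0, 1],
    ![1, 0, 2, 2, 1],
    ![1, 1, 1, 2, 0],
    ![1, 2, 0, 2, 2],
    ![1, 2, 2, 0, 2],
    ![1, 2, 0, 2, 1],
    ![1, 2, 1, 1, 0],
    ![1, 1, 1, 1, 0],
    ![1, 2, 2, 1, 0],
    ![1, 1, 0, 1, 1],
    ![1, 0, 1, 1, 2],
    ![1, 1, 0, 1, 2],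
    ![1, 1, 2, 2, 0],
    ![1, 1, 1, 0, 1],
    ![1, 0, 1, 1, 1],
    ![1, 1, 1, 0, 2],
    ![1, 2, 1, 2, 0]]

/-- The rows of the conjugation table `tblUni`. -/
def tblUniL : List (List ℕ) :=
  [[0, 2, 1, 6, 7, 8, 3, 4, 5, 12, 13, 14, 9, 10, 11, 15, 16, 19, 22, 17, 20, 23, 18, 21, 24, 25, 26, 29, 32, 27, 30, 33, 28, 31, 34, 35, 36, 39, 42, 37, 40, 43, 38, 41, 44],
    [2, 1, 0, 8, 6, 7, 4, 5, 3, 14, 12, 13, 10, 11, 9, 15, 23, 17, 20, 24, 18, 21, 22, 16, 19, 25, 33, 27, 30, 34, 28, 31, 32, 26, 29, 35, 43, 37, 40, 44, 38, 41, 42, 36, 39],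
    [1, 0, 2, 7, 8, 6, 5, 3, 4, 13, 14, 12, 11, 9, 10, 15, 21, 24, 18, 19, 22, 16, 20, 23, 17, 25, 31, 34, 28, 29, 32, 26, 30, 33, 27, 35, 41, 44, 38, 39, 42, 36, 40, 43, 37],
    [6, 8, 7, 3, 5, 4, 0, 2, 1, 15, 25, 35, 12, 13, 14, 9, 16, 26, 36, 19, 29, 39, 22, 32, 42, 10, 17, 27, 37, 20, 30, 40, 23, 33, 43, 11, 18, 28, 38, 21, 31, 41, 24, 34, 44],
    [7, 6, 8, 5, 4, 3, 1, 0, 2, 35, 15, 25, 12, 13, 14, 10, 37, 17, 27, 40, 20, 30, 43, 23, 33, 11, 38, 18, 28, 41, 21, 31, 44, 24, 34, 9, 36, 16, 26, 39, 19, 29, 42, 22, 32],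
    [8, 7, 6, 4, 3, 5, 2, 1, 0, 25, 35, 15, 12, 13, 14, 11, 28, 38, 18, 31, 41, 21, 34, 44, 24, 9, 26, 36, 16, 29, 39, 19, 32, 42, 22, 10, 27, 37, 17, 30, 40, 20, 33, 43, 23],
    [3, 4, 5, 0, 1, 2, 6, 8, 7, 9, 10, 11, 15, 25, 35, 12, 16, 17, 18, 26, 27, 28, 36, 37, 38, 13, 19, 20, 21, 29, 30, 31, 39, 40, 41, 14, 22, 23, 24, 32, 33, 34, 42, 43, 44],
    [4, 5, 3, 2, 0, 1, 8, 7, 6, 9, 10, 11, 35, 15, 25, 13, 39, 40, 41, 19, 20, 21, 29, 30, 31, 14, 42, 43, 44, 22, 23, 24, 32, 33, 34, 12, 36, 37, 38, 16, 17, 18, 26, 27, 28],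
    [5, 3, 4, 1, 2, 0, 7, 6, 8, 9, 10, 11, 25, 35, 15, 14, 32, 33, 34, 42, 43, 44, 22, 23, 24, 12, 26, 27, 28, 36, 37, 38, 16, 17, 18, 13, 29, 30, 31, 39, 40, 41, 19, 20, 21],
    [12, 14, 13, 15, 35, 25, 6, 7, 8, 9, 11, 10, 0, 2, 1, 3, 16, 44, 30, 19, 38, 33, 22, 41, 27, 5, 26, 24, 40, 29, 18, 43, 32, 21, 37, 4, 36, 34, 20, 39, 28, 23, 42, 31, 17],
    [13, 12, 14, 25, 15, 35, 6, 7, 8, 11, 10, 9, 1, 0, 2, 4, 31, 17, 42, 34, 20, 36, 28, 23, 39, 3, 41, 27, 22, 44, 30, 16, 38, 33, 19, 5, 21, 37, 32, 24, 40, 26, 18, 43, 29],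
    [14, 13, 12, 35, 25, 15, 6, 7, 8, 10, 9, 11, 2, 1, 0, 5, 43, 29, 18, 37, 32, 21, 40, 26, 24, 4, 23, 39, 28, 17, 42, 31, 20, 36, 34, 3, 33, 19, 38, 27, 22, 41, 30, 16, 44],
    [9, 10, 11, 3, 4, 5, 15, 35, 25, 0, 1, 2, 12, 14, 13, 6, 16, 17, 18, 44, 42, 43, 30, 31, 29, 8, 26, 27, 28, 24, 22, 23, 40, 41, 39, 7, 36, 37, 38, 34, 32, 33, 20, 21, 19],
    [10, 11, 9, 3, 4, 5, 25, 15, 35, 2, 0, 1, 14, 13, 12, 7, 33, 34, 32, 19, 20, 21, 38, 36, 37, 6, 43, 44, 42, 29, 30, 31, 18, 16, 17, 8, 23, 24, 22, 39, 40, 41, 28, 26, 27],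
    [11, 9, 10, 3, 4, 5, 35, 25, 15, 1, 2, 0, 13, 12, 14, 8, 41, 39, 40, 27, 28, 26, 22, 23, 24, 7, 21, 19, 20, 37, 38, 36, 32, 33, 34, 6, 31, 29, 30, 17, 18, 16, 42, 43, 44],
    [0, 1, 2, 9, 10, 11, 12, 13, 14, 3, 4, 5, 6, 7, 8, 15, 16, 17, 18, 19, 20, 21, 22, 23, 24, 35, 44, 42, 43, 38, 36, 37, 41, 39, 40, 25, 30, 31, 29, 33, 34, 32, 27, 28, 26],
    [0, 23, 21, 3, 37, 28, 6, 39, 32, 9, 31, 43, 12, 33, 41, 15, 16, 18, 17, 22, 20, 2, 19, 1, 24, 40, 36, 27, 5, 29, 44, 10, 8, 13, 35, 34, 26, 4, 38, 7, 25, 14, 42, 11, 30],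
    [19, 1, 24, 26, 4, 38, 6, 40, 33, 44, 10, 29, 12, 34, 39, 15, 18, 17, 16, 0, 23, 21, 22, 20, 2, 41, 3, 37, 28, 11, 30, 42, 35, 8, 13, 32, 36, 27, 5, 14, 7, 25, 31, 43, 9],
    [22, 20, 2, 36, 27, 5, 6, 41, 34, 30, 42, 11, 12, 32, 40, 15, 17, 16, 18, 19, 1, 24, 0, 23, 21, 39, 26, 4, 38, 43, 9, 31, 13, 35, 8, 33, 3, 37, 28, 25, 14, 7, 10, 29, 44],
    [17, 24, 2, 3, 40, 31, 26, 7, 42, 9, 34, 37, 44, 13, 27, 15, 22, 0, 18, 19, 21, 20, 16, 23, 1, 43, 6, 14, 35, 39, 30, 5, 32, 38, 10, 28, 36, 11, 33, 29, 4, 41, 8, 25, 12],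
    [0, 18, 22, 29, 4, 41, 27, 7, 43, 38, 10, 32, 42, 13, 28, 15, 16, 23, 1, 21, 20, 19, 2, 17, 24, 44, 35, 6, 14, 3, 40, 31, 11, 33, 36, 26, 34, 37, 9, 39, 30, 5, 12, 8, 25],
    [23, 1, 16, 39, 30, 5, 28, 7, 44, 33, 36, 11, 43, 13, 26, 15, 2, 17, 24, 20, 19, 21, 22, 0, 18, 42, 14, 35, 6, 29, 4, 41, 37, 9, 34, 27, 10, 32, 38, 3, 40, 31, 25, 12, 8],
    [18, 1, 20, 3, 43, 34, 36, 29, 8, 9, 28, 40, 30, 38, 14, 15, 19, 17, 0, 16, 2, 21, 22, 24, 23, 37, 26, 41, 10, 7, 12, 35, 42, 33, 5, 31, 6, 25, 13, 39, 11, 27, 32, 4, 44],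
    [21, 16, 2, 32, 4, 44, 37, 30, 8, 41, 10, 26, 31, 36, 14, 15, 1, 20, 18, 19, 17, 0, 24, 23, 22, 38, 11, 27, 39, 35, 7, 12, 3, 43, 34, 29, 13, 6, 25, 28, 40, 9, 42, 33, 5],
    [0, 19, 17, 42, 33, 5, 38, 31, 8, 27, 39, 11, 29, 37, 14, 15, 16, 2, 21, 1, 20, 18, 23, 22, 24, 36, 40, 9, 28, 12, 35, 7, 32, 4, 44, 30, 25, 13, 6, 10, 26, 41, 3, 43, 34],
    [0, 1, 2, 10, 11, 9, 13, 14, 12, 5, 3, 4, 8, 6, 7, 35, 40, 41, 39, 43, 44, 42, 37, 38, 36, 25, 26, 27, 28, 29, 30, 31, 32, 33, 34, 15, 24, 22, 23, 18, 16, 17, 21, 19, 20],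
    [0, 33, 31, 17, 38, 5, 19, 42, 8, 9, 41, 23, 12, 43, 21, 44, 36, 3, 18, 6, 35, 14, 22, 11, 40, 25, 26, 28, 27, 32, 30, 2, 29, 1, 34, 20, 16, 37, 4, 39, 24, 10, 7, 13, 15],
    [29, 1, 34, 3, 18, 36, 20, 43, 8, 24, 10, 39, 12, 44, 19, 42, 16, 37, 4, 14, 6, 35, 41, 23, 9, 25, 28, 27, 26, 0, 33, 31, 32, 30, 2, 21, 5, 17, 38, 11, 40, 22, 15, 7, 13],
    [32, 30, 2, 37, 4, 16, 21, 44, 8, 40, 22, 11, 12, 42, 20, 43, 5, 17, 38, 35, 14, 6, 10, 39, 24, 25, 27, 26, 28, 29, 1, 34, 0, 33, 31, 19, 36, 3, 18, 23, 9, 41, 13, 15, 7],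
    [27, 34, 2, 20, 41, 5, 6, 22, 36, 9, 44, 17, 24, 13, 37, 38, 16, 11, 43, 39, 3, 21, 7, 35, 12, 25, 32, 0, 28, 29, 31, 30, 26, 33, 1, 23, 8, 14, 15, 19, 40, 4, 42, 18, 10],
    [0, 28, 32, 3, 21, 39, 6, 23, 37, 18, 10, 42, 22, 13, 38, 36, 44, 17, 9, 19, 40, 4, 12, 7, 35, 25, 26, 33, 1, 31, 30, 29, 2, 27, 34, 24, 15, 8, 14, 5, 20, 41, 11, 43, 16],
    [33, 1, 26, 40, 4, 19, 6, 24, 38, 43, 16, 11, 23, 13, 36, 37, 10, 42, 18, 5, 20, 41, 35, 12, 7, 25, 2, 27, 34, 30, 29, 31, 32, 0, 28, 22, 14, 15, 8, 39, 3, 21, 17, 9, 44],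
    [28, 1, 30, 23, 44, 5, 39, 7, 16, 9, 38, 20, 40, 18, 14, 41, 8, 35, 13, 19, 11, 37, 42, 3, 24, 25, 29, 27, 0, 26, 2, 31, 32, 34, 33, 17, 36, 21, 10, 6, 12, 15, 22, 43, 4],
    [31, 26, 2, 3, 24, 42, 40, 7, 17, 21, 10, 36, 41, 16, 14, 39, 13, 8, 35, 38, 20, 9, 22, 43, 4, 25, 1, 30, 28, 29, 27, 0, 34, 33, 32, 18, 11, 37, 19, 15, 6, 12, 5, 23, 44],
    [0, 29, 27, 43, 4, 22, 41, 7, 18, 37, 19, 11, 39, 17, 14, 40, 35, 13, 8, 10, 36, 21, 5, 23, 44, 25, 26, 2, 31, 1, 30, 28, 33, 32, 34, 16, 20, 9, 38, 12, 15, 6, 42, 3, 24],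
    [0, 1, 2, 11, 9, 10, 14, 12, 13, 4, 5, 3, 7, 8, 6, 25, 34, 32, 33, 28, 26, 27, 31, 29, 30, 15, 20, 21, 19, 23, 24, 22, 17, 18, 16, 35, 36, 37, 38, 39, 40, 41, 42, 43, 44],
    [0, 43, 41, 18, 4, 27, 22, 7, 29, 9, 21, 33, 12, 23, 31, 30, 26, 17, 3, 19, 34, 10, 6, 13, 25, 24, 16, 5, 28, 8, 15, 14, 32, 11, 20, 35, 36, 38, 37, 42, 40, 2, 39, 1, 44],
    [39, 1, 44, 28, 16, 5, 23, 7, 30, 34, 10, 19, 12, 24, 29, 31, 4, 27, 18, 11, 20, 32, 25, 6, 13, 22, 26, 17, 3, 14, 8, 15, 21, 33, 9, 35, 38, 37, 36, 0, 43, 41, 42, 40, 2],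
    [42, 40, 2, 3, 26, 17, 24, 7, 31, 20, 32, 11, 12, 22, 30, 29, 16, 5, 28, 33, 9, 21, 13, 25, 6, 23, 4, 27, 18, 15, 14, 8, 10, 19, 34, 35, 37, 36, 38, 39, 1, 44, 0, 43, 41],
    [37, 44, 2, 21, 4, 30, 32, 16, 8, 9, 24, 27, 34, 13, 17, 33, 7, 14, 25, 29, 20, 3, 22, 28, 10, 18, 26, 11, 23, 19, 5, 31, 6, 15, 12, 35, 42, 0, 38, 39, 41, 40, 36, 43, 1],
    [0, 38, 42, 31, 19, 5, 33, 17, 8, 28, 10, 22, 32, 13, 18, 34, 25, 7, 14, 4, 30, 21, 11, 23, 26, 16, 24, 27, 9, 29, 20, 3, 12, 6, 15, 35, 36, 43, 1, 41, 40, 39, 2, 37, 44],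
    [43, 1, 36, 3, 29, 20, 34, 18, 8, 23, 26, 11, 33, 13, 16, 32, 14, 25, 7, 19, 5, 31, 27, 9, 24, 17, 10, 22, 28, 4, 30, 21, 15, 12, 6, 35, 2, 37, 44, 40, 39, 41, 42, 0, 38],
    [38, 1, 40, 24, 4, 33, 6, 26, 19, 9, 18, 30, 20, 28, 14, 27, 16, 31, 10, 8, 12, 25, 32, 23, 3, 21, 7, 15, 13, 29, 11, 17, 22, 5, 34, 35, 39, 37, 0, 36, 2, 41, 42, 44, 43],
    [41, 36, 2, 34, 22, 5, 6, 27, 20, 31, 10, 16, 21, 26, 14, 28, 11, 17, 29, 25, 8, 12, 4, 33, 24, 19, 13, 7, 15, 18, 30, 9, 32, 23, 3, 35, 1, 40, 38, 39, 37, 0, 44, 43, 42],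
    [0, 39, 37, 3, 32, 23, 6, 28, 21, 17, 29, 11, 19, 27, 14, 26, 30, 9, 18, 12, 25, 8, 22, 5, 34, 20, 15, 13, 7, 10, 16, 31, 4, 33, 24, 35, 36, 2, 41, 1, 40, 38, 43, 42, 44]]

/-- The conjugation table `tblUni`. -/
def tblUni (a b : Fin 45) : Fin 45 :=
  ⟨(((tblUniL).getD a.val []).getD b.val 0) % 45, Nat.mod_lt _ (by decide)⟩

end Cfsg.Lib.Fischer.Thm.SmallIso
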