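import Cfsg.Agent.Lib.Fischer.Thm.List
import Cfsg.Agent.Lib.Linear.OrthTwoTransposition

/-!
# Indexed transvection classes of orthogonal spaces over two elements
-/

set_option autoImplicit false

namespace Cfsg.Lib.Fischer.Thm.SmallIso

open Cfsg Cfsg.Lib.Linear.Orth
open scoped Matrix

variable {ι : Type} [Fintype ι] [DecidableEq ι] {Q : (ι → ZMod 2) → ZMod 2}

/-- The transvection in a vector, on vectors. -/
def tv2 (Q : (ι → ZMod 2) → ZMod 2) (v x : ι → ZMod 2) : ι → ZMod 2 :=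
  x + (Q (v + x) - Q v - Q x) • v

/-- The class, indexed. -/
theorem exists_orth_points {B : LinearMap.BilinForm (ZMod 2) (ι → ZMod 2)} (C : Space Q B) {G : Type*} [Group G]
    {D : Set G} (e : G ≃* ↥(isometryGroup (ZMod 2) Q))
    (he : e '' D = {g : ↥(isometryGroup (ZMod 2) Q) |
      (((g : GL ι (ZMod 2)) : Matrix ι ι (ZMod 2)) - 1).rank = 1})
    {n : ℕ} (pt : Fin n → ι → ZMod 2) (T : Fin n → Fin n → Fin n)
    (h1 : ∀ p, Q (pt p) = 1) (h2 : ∀ v, Q v = 1 → ∃ p, v = pt p)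
    (h3 : ∀ a b, tv2 Q (pt a) (pt b) = pt (T a b))
    (h4 : ∀ a b, (∀ i, tv2 Q (pt a) (Pi.single i 1) = tv2 Q (pt b) (Pi.single i 1)) → a = b)
    (h5 : 5 ≤ Fintype.card ι) (h6 : ∀ i, ∃ a b, Pi.single i 1 = pt a + pt b) :
    ∃ δ : Fin n → G, Function.Injective δ ∧ Set.range δ = D ∧ (∀ a b, δ a * δ b * (δ a)⁻¹ = δ (T a b)) ∧
      Subgroup.closure D = ⊤ ∧ Subgroup.center G = ⊥ := by
  have hQ0 : ∀ p, Q (pt p) ≠ 0 := fun p => by rw [h1]; exact one_ne_zero
  have hact : ∀ p x, (rGL Q (pt p)).val *ᵥ x = tv2 Q (pt p) x := fun p x => by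
    rw [rGL2_act C (hQ0 p), tv2, ← C.polar]; rfl
  let s : Fin n → ↥(isometryGroup (ZMod 2) Q) := fun p => ⟨rGL Q (pt p), rGL_mem C (hQ0 p)⟩
  have hs : Set.range s = e '' D := by
    rw [he]
    ext g
    rw [Set.mem_ofPred, rank_one_iff' C g.1 g.2]
    constructor
    · rintro ⟨p, rfl⟩
      exact ⟨pt p, hQ0 p, rfl⟩
    · rintro ⟨v, hv, hg⟩
      obtain ⟨p, rfl⟩ := h2 v ((zmod2_cases' _).resolve_left hv)
      exact ⟨p, Subtype.ext hg.symm⟩
  have hsinj : ∀ a b, rGL Q (pt a) = rGL Q (pt b) → a = b := fun a b h => h4 a b fun i => by rw [← hact, ← hact, h]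
  have hgen : ∀ g : ↥(isometryGroup (ZMod 2) Q), g ∈ Subgroup.closure (Set.range s) := by
    intro g
    have key : Subgroup.closure {g | ∃ v, Q v ≠ 0 ∧ g = rGL Q v} ≤
        (Subgroup.closure (Set.range s)).map (isometryGroup (ZMod 2) Q).subtype := by
      rw [Subgroup.closure_le]
      rintro _ ⟨v, hv, rfl⟩
      obtain ⟨p, rfl⟩ := h2 v ((zmod2_cases' _).resolve_left hv)
      exact ⟨s p, Subgroup.subset_closure ⟨p, rfl⟩, rfl⟩
    obtain ⟨y, hy, hyg⟩ := key (iso_le_closure_rGL C h5 g.2)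
    rwa [← Subtype.ext hyg]
  have hcen : ∀ g : ↥(isometryGroup (ZMod 2) Q), (∀ p, s p * g = g * s p) → g = 1 := by
    intro g hg
    have hfix : ∀ p, (g : GL ι (ZMod 2)).val *ᵥ pt p = pt p := fun p => by
      have h : rGL Q ((g : GL ι (ZMod 2)).val *ᵥ pt p) = rGL Q (pt p) := by
        rw [← rGL_conj C (hQ0 p) g.2, mul_inv_eq_iff_eq_mul]
        exact (congrArg Subtype.val (hg p)).symm
      obtain ⟨q, hq⟩ := h2 _ (show Q ((g : GL ι (ZMod 2)).val *ᵥ pt p) = 1 by rw [mem_iso.mp g.2, h1])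
      rw [hq] at h ⊢
      rw [hsinj q p h]
    refine Subtype.ext (Units.ext (Matrix.ext fun i j => ?_))
    obtain ⟨a, b, hab⟩ := h6 j
    have h : (g : GL ι (ZMod 2)).val *ᵥ Pi.single j 1 = Pi.single j 1 := by
      rw [hab, Matrix.mulVec_add, hfix, hfix]
    have hi := congrFun h i
    rw [Matrix.mulVec_single_one, Matrix.col_apply] at hi
    rw [hi]
    simp [Matrix.one_apply, Pi.single_apply]
  have hD : Set.range (fun p => e.symm (s p)) = D := by
    rw [show (fun p => e.symm (s p)) = (fun g => e.symm g) ∘ s from rfl, Set.range_comp, hs, Set.image_image]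
    simp
  refine ⟨fun p => e.symm (s p), fun a b h => hsinj a b (congrArg Subtype.val (e.symm.injective h)), hD,
    fun a b => ?_, ?_, ?_⟩
  · rw [← map_mul, ← map_inv, ← map_mul]
    refine congrArg _ (Subtype.ext ?_)
    show rGL Q (pt a) * rGL Q (pt b) * (rGL Q (pt a))⁻¹ = rGL Q (pt (T a b))
    rw [rGL_conj C (hQ0 b) (rGL_mem C (hQ0 a)), hact, h3]
  · refine eq_top_iff.2 fun x _ => ?_
    have h : Subgroup.closure (Set.range s) ≤ (Subgroup.closure D).comap e.symm.toMonoidHom := by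
      rw [Subgroup.closure_le]
      rintro _ ⟨p, rfl⟩
      exact Subgroup.subset_closure (hD.le ⟨p, rfl⟩)
    have := h (hgen (e x))
    rwa [Subgroup.mem_comap, MulEquiv.coe_toMonoidHom, e.symm_apply_apply] at this
  · rw [Subgroup.eq_bot_iff_forall]
    intro x hx
    refine e.injective ((hcen (e x) fun p => ?_).trans (map_one e).symm)
    apply e.symm.injective
    rw [map_mul, map_mul, e.symm_apply_apply]
    exact Subgroup.mem_center_iff.1 hx _

end Cfsg.Lib.Fischer.Thm.SmallIso
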