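import Mathlib

/-!
# Two groups whose generating classes have the same conjugation table

A group generated by an injectively indexed class maps onto a second group with the same table and trivial centre,
the kernel being the centre.
-/

set_option autoImplicit false

namespace Cfsg.Lib.Fischer.Thm.SmallIso

variable {G H P : Type*} [Group G] [Group H] [Finite P]

/-- The action of a group on the indices of a generating class with a conjugation table. -/
theorem exists_action (k : P → G) (hk : Function.Injective k) (hgen : Subgroup.closure (Set.range k) = ⊤)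
    (T : P → P → P) (hT : ∀ a b, k a * k b * (k a)⁻¹ = k (T a b)) :
    ∃ φ : G →* Equiv.Perm P, (∀ a b, φ (k a) b = T a b) ∧ φ.ker = Subgroup.center G := by
  classical
  have hcl : ∀ g : G, ∀ p, ∃ q, g * k p * g⁻¹ = k q := by
    let S : Submonoid G :=
      { carrier := {g | ∀ p, ∃ q, g * k p * g⁻¹ = k q}
        one_mem' := fun p => ⟨p, by simp⟩
        mul_mem' := fun {g h} hg hh p => by
          obtain ⟨q, hq⟩ := hh p
          obtain ⟨q', hq'⟩ := hg q
          exact ⟨q', by rw [← hq', ← hq]; group⟩ }
    intro g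
    have hg : g ∈ Subgroup.closure (Set.range k) := hgen ▸ Subgroup.mem_top g
    show g ∈ S
    induction hg using Subgroup.closure_induction with
    | mem x hx => obtain ⟨a, rfl⟩ := hx; exact fun p => ⟨T a p, hT a p⟩
    | one => exact S.one_mem
    | mul u v _ _ hu hv => exact S.mul_mem hu hv
    | inv u _ hu =>
      intro p
      choose σ hσ using hu
      have hinj : Function.Injective σ := fun a b h => hk <| by
        have := (hσ a).trans ((congrArg k h).trans (hσ b).symm)
        exact mul_left_cancel (mul_right_cancel this)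
      obtain ⟨q, rfl⟩ := (Finite.injective_iff_bijective.1 hinj).2 p
      exact ⟨q, by rw [← hσ q]; group⟩
  choose σ hσ using hcl
  have hmul : ∀ g h p, σ (g * h) p = σ g (σ h p) := fun g h p => hk <| by
    rw [← hσ, ← hσ, ← hσ]; group
  have hone : ∀ p, σ 1 p = p := fun p => hk <| by rw [← hσ]; simp
  let φ : G →* Equiv.Perm P := MonoidHom.mk' (fun g =>
    { toFun := σ g
      invFun := σ g⁻¹
      left_inv := fun p => by rw [← hmul, inv_mul_cancel, hone]
      right_inv := fun p => by rw [← hmul, mul_inv_cancel, hone] }) fun g h => Equiv.ext fun p => hmul g h p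
  refine ⟨φ, fun a b => hk ((hσ (k a) b).symm.trans (hT a b)), ?_⟩
  ext g
  rw [MonoidHom.mem_ker, Subgroup.mem_center_iff]
  constructor
  · intro h x
    have hx : x ∈ Subgroup.closure (Set.range k) := hgen ▸ Subgroup.mem_top x
    have hle : Subgroup.closure (Set.range k) ≤ Subgroup.centralizer {g} := by
      rw [Subgroup.closure_le]
      rintro _ ⟨p, rfl⟩
      refine Subgroup.mem_centralizer_singleton_iff.2 (mul_inv_eq_iff_eq_mul.1 ?_).symm
      rw [hσ g p]
      exact congrArg k (Equiv.ext_iff.1 h p)
    exact (Subgroup.mem_centralizer_singleton_iff.1 (hle hx))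
  · intro h
    refine Equiv.ext fun p => hk ?_
    show k (σ g p) = k p
    rw [← hσ, ← h (k p), mul_inv_cancel_right]

/-- The map between two groups with the same table. -/
theorem exists_hom (δ : P → G) (hδ : Function.Injective δ) (hδg : Subgroup.closure (Set.range δ) = ⊤)
    (hG : Subgroup.center G = ⊥) (r : P → H) (hr : Function.Injective r)
    (hrg : Subgroup.closure (Set.range r) = ⊤) (T : P → P → P)
    (hδT : ∀ a b, δ a * δ b * (δ a)⁻¹ = δ (T a b)) (hrT : ∀ a b, r a * r b * (r a)⁻¹ = r (T a b)) :
    ∃ θ : H →* G, Function.Surjective θ ∧ θ.ker = Subgroup.center H ∧ ∀ p, θ (r p) = δ p := by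
  obtain ⟨φ, hφ, hφk⟩ := exists_action δ hδ hδg T hδT
  obtain ⟨ψ, hψ, hψk⟩ := exists_action r hr hrg T hrT
  have hinj : Function.Injective φ := (MonoidHom.ker_eq_bot_iff φ).1 (hφk.trans hG)
  have heq : ∀ p, φ (δ p) = ψ (r p) := fun p => Equiv.ext fun q => (hφ p q).trans (hψ p q).symm
  have hmem : ∀ h, ψ h ∈ φ.range := fun h => by
    have h1 : Subgroup.closure (Set.range r) ≤ φ.range.comap ψ := by
      rw [Subgroup.closure_le]
      rintro _ ⟨p, rfl⟩
      exact ⟨δ p, heq p⟩
    exact h1 (hrg ▸ Subgroup.mem_top h)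
  let E := MonoidHom.ofInjective hinj
  let θ : H →* G := E.symm.toMonoidHom.comp (ψ.codRestrict φ.range hmem)
  have hθ : ∀ h, φ (θ h) = ψ h := fun h => congrArg Subtype.val (E.apply_symm_apply ⟨ψ h, hmem h⟩)
  have hp : ∀ p, θ (r p) = δ p := fun p => hinj ((hθ _).trans (heq p).symm)
  refine ⟨θ, fun g => ?_, ?_, hp⟩
  · have h1 : Subgroup.closure (Set.range δ) ≤ θ.range := by
      rw [Subgroup.closure_le]
      rintro _ ⟨p, rfl⟩
      exact ⟨r p, hp p⟩
    exact h1 (hδg ▸ Subgroup.mem_top g)
  · rw [← hψk]
    ext h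
    rw [MonoidHom.mem_ker, MonoidHom.mem_ker, ← hθ h, map_eq_one_iff φ hinj]

end Cfsg.Lib.Fischer.Thm.SmallIso
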