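import Cfsg.Agent.Lib.Fischer.Thm.List
import Cfsg.Agent.Lib.Fischer.Thm.SmallIso.Conj
import Cfsg.Agent.Lib.Linear.OrthSpinor

/-!
# Indexed reflection classes of the standard five-dimensional space over three elements
-/

set_option autoImplicit false

namespace Cfsg.Lib.Fischer.Thm.SmallIso

open Cfsg Cfsg.Lib.Linear.Orth
open scoped Matrix

/-- Vectors of the five-dimensional space over three elements. -/
abbrev V5 := Fin 5 → ZMod 3

/-- The standard form. -/
noncomputable def form5 : QuadraticForm (ZMod 3) V5 :=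
  QuadraticMap.weightedSumSquares (ZMod 3) (1 : Fin 5 → ZMod 3)

/-- The standard norm. -/
def q5 (v : V5) : ZMod 3 := v 0 * v 0 + v 1 * v 1 + v 2 * v 2 + v 3 * v 3 + v 4 * v 4

/-- Its polar form. -/
def b5 (u v : V5) : ZMod 3 := 2 * (u 0 * v 0 + u 1 * v 1 + u 2 * v 2 + u 3 * v 3 + u 4 * v 4)

/-- The reflection in a vector of norm `c`. -/
def refl5 (c : ZMod 3) (v w : V5) : V5 := fun i => w i - c * b5 v w * v i

theorem form5_apply (v : V5) : form5 v = q5 v := by
  simp [form5, QuadraticMap.weightedSumSquares_apply, Fin.sum_univ_five, q5]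

theorem polar5_apply (u v : V5) : QuadraticMap.polarBilin form5 u v = b5 u v := by
  simp only [QuadraticMap.polarBilin_apply_apply, QuadraticMap.polar, form5_apply, q5, b5, Pi.add_apply]
  ring

theorem ndeg5 : ∀ u : V5, (∀ i : Fin 5, b5 u (Pi.single i 1) = 0) → u = 0 := by decide +kernel

theorem form5_nondeg : (QuadraticMap.polarBilin form5).Nondegenerate := by
  have h : ∀ u : V5, (∀ x, b5 u x = 0) → u = 0 := fun u hu => ndeg5 u fun i => hu _
  refine ⟨fun u hu => h u fun x => (polar5_apply u x).symm.trans (hu x), fun u hu => h u fun x => ?_⟩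
  have := hu x
  rw [polar5_apply] at this
  rw [← this, b5, b5]; ring

/-- The indexed class. -/
theorem exists_refl_points {n : ℕ} {c : ZMod 3} (hc : c ≠ 0) (pt : Fin n → V5) (T : Fin n → Fin n → Fin n)
    (h1 : ∀ p, q5 (pt p) = c) (h2 : ∀ v, q5 v = c → ∃ p, v = pt p ∨ v = -pt p)
    (h3 : ∀ a b, refl5 c (pt a) (pt b) = pt (T a b) ∨ refl5 c (pt a) (pt b) = -pt (T a b))
    (h4 : ∀ a b, (∀ i : Fin 5, refl5 c (pt a) (Pi.single i 1) = refl5 c (pt b) (Pi.single i 1)) → a = b) :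
    ∃ r : Fin n → ↥(reflectionSubgroup (⇑form5) c), Function.Injective r ∧
      Subgroup.closure (Set.range r) = ⊤ ∧ (∀ a b, r a * r b * (r a)⁻¹ = r (T a b)) ∧
      Set.range r = {g : ↥(reflectionSubgroup (⇑form5) c) |
        (g : ↥(isometryGroup (ZMod 3) (⇑form5))) ∈ reflectionsOfNorm (⇑form5) c} := by
  have C : Space (⇑form5) (QuadraticMap.polarBilin form5) := space_of_quadraticForm form5 form5_nondeg
  have hQ : ∀ p, form5 (pt p) = c := fun p => (form5_apply _).trans (h1 p)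
  have hQ0 : ∀ p, form5 (pt p) ≠ 0 := fun p => by rw [hQ]; exact hc
  have hci : c⁻¹ = c := inv_eq_of_mul_eq_one_right ((show ∀ a : ZMod 3, a ≠ 0 → a * a = 1 by decide) c hc)
  have hact : ∀ p x, (rGL (⇑form5) (pt p)).val *ᵥ x = refl5 c (pt p) x := fun p x => by
    rw [rGL_act C (hQ0 p), hQ, hci, polar5_apply]; rfl
  have hneg : ∀ p, rGL (⇑form5) (-pt p) = rGL (⇑form5) (pt p) := fun p => by
    rw [← neg_one_smul (ZMod 3) (pt p)]; exact rGL_smul C (hQ0 p) (neg_ne_zero.2 one_ne_zero)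
  let s : Fin n → ↥(isometryGroup (ZMod 3) (⇑form5)) := fun p => ⟨rGL (⇑form5) (pt p), rGL_mem C (hQ0 p)⟩
  have hs : Set.range s = reflectionsOfNorm (⇑form5) c := Set.ext fun g => by
    constructor
    · rintro ⟨p, rfl⟩
      exact ⟨pt p, hQ p, rGL_val C (hQ0 p)⟩
    · rintro ⟨v, hv, he⟩
      have hv0 : form5 v ≠ 0 := by rw [hv]; exact hc
      obtain ⟨p, rfl | rfl⟩ := h2 v (by rw [← form5_apply, hv])
      · exact ⟨p, Subtype.ext (Units.ext ((rGL_val C hv0).trans he.symm))⟩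
      · exact ⟨p, Subtype.ext ((hneg p).symm.trans (Units.ext ((rGL_val C hv0).trans he.symm)))⟩
  let r : Fin n → ↥(reflectionSubgroup (⇑form5) c) := fun p =>
    ⟨s p, Subgroup.subset_closure (hs.le ⟨p, rfl⟩)⟩
  have hrange : Set.range r = {g : ↥(reflectionSubgroup (⇑form5) c) |
      (g : ↥(isometryGroup (ZMod 3) (⇑form5))) ∈ reflectionsOfNorm (⇑form5) c} := Set.ext fun g => by
    constructor
    · rintro ⟨p, rfl⟩
      exact hs.le ⟨p, rfl⟩
    · intro hg
      obtain ⟨p, hp⟩ := hs.ge hg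
      exact ⟨p, Subtype.ext hp⟩
  refine ⟨r, fun a b h => h4 a b fun i => ?_, ?_, fun a b => ?_, hrange⟩
  · rw [← hact, ← hact, show rGL (⇑form5) (pt a) = rGL (⇑form5) (pt b) from
      congrArg (fun g : ↥(reflectionSubgroup (⇑form5) c) => ((g : ↥(isometryGroup (ZMod 3) (⇑form5))) : GL (Fin 5) (ZMod 3))) h]
  · rw [hrange]
    exact Subgroup.closure_closure_coe_preimage
  · refine Subtype.ext (Subtype.ext ?_)
    show rGL (⇑form5) (pt a) * rGL (⇑form5) (pt b) * (rGL (⇑form5) (pt a))⁻¹ = rGL (⇑form5) (pt (T a b))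
    rw [rGL_conj C (hQ0 b) (rGL_mem C (hQ0 a)), hact]
    rcases h3 a b with h | h <;> rw [h]
    exact hneg _

/-- A finite pair with the table of such a class is the reflection group modulo its centre. -/
theorem isRefl_of_points {G : Type*} [Group G] {D : Set G} {n : ℕ} {c : ZMod 3} (hc : c ≠ 0)
    (pt : Fin n → V5) (T : Fin n → Fin n → Fin n)
    (h1 : ∀ p, q5 (pt p) = c) (h2 : ∀ v, q5 v = c → ∃ p, v = pt p ∨ v = -pt p)
    (h3 : ∀ a b, refl5 c (pt a) (pt b) = pt (T a b) ∨ refl5 c (pt a) (pt b) = -pt (T a b))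
    (h4 : ∀ a b, (∀ i : Fin 5, refl5 c (pt a) (Pi.single i 1) = refl5 c (pt b) (Pi.single i 1)) → a = b)
    (δ : Fin n → G) (hδ : Function.Injective δ) (hD : Set.range δ = D) (hgen : Subgroup.closure D = ⊤)
    (hG : Subgroup.center G = ⊥) (hT : ∀ a b, δ a * δ b * (δ a)⁻¹ = δ (T a b)) :
    ∃ μ c', IsRefl G D 5 μ c' := by
  obtain ⟨r, hr, hrg, hrT, hrange⟩ := exists_refl_points hc pt T h1 h2 h3 h4
  obtain ⟨θ, hθ, hker, hp⟩ := exists_hom δ hδ (hD.symm ▸ hgen) hG r hr hrg T hT hrT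
  let f : ↥(reflectionSubgroup (⇑form5) c) ⧸ Subgroup.center ↥(reflectionSubgroup (⇑form5) c) ≃* G :=
    (QuotientGroup.quotientMulEquivOfEq hker.symm).trans (QuotientGroup.quotientKerEquivOfSurjective θ hθ)
  have hf : ∀ g, f (QuotientGroup.mk g) = θ g := fun g => rfl
  refine ⟨_, c, form5, form5_nondeg, rfl, hc, f.symm, ?_⟩
  rw [← hD, ← hrange, ← Set.range_comp, ← Set.range_comp]
  exact congrArg Set.range (funext fun p => f.injective (by
    rw [Function.comp_apply, Function.comp_apply, MulEquiv.apply_symm_apply, hf, hp]))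

end Cfsg.Lib.Fischer.Thm.SmallIso
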